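import Groth.Agent.Devissage.Core
import Groth.Agent.CurveRR.Euler
import Groth.Agent.CycDim.DegBase
import Groth.Prelude.Def_W4c5delpairindexchiIndex

/-!
Coherent modules whose Euler characteristic lies in the index subgroup up to a factor prime to `ℓ`:
dévissage.
-/

set_option autoImplicit false
set_option backward.isDefEq.respectTransparency false
set_option backward.isDefEq.respectTransparency.types false

universe u

open CategoryTheory CategoryTheory.Limits AlgebraicGeometry TopologicalSpace Opposite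

noncomputable section

namespace Groth.Agent.IndexAlt

open Groth.Agent.QC Groth.Agent.WeakAssLib Groth.Agent.Devissage

variable (K : Type u) [Field K] (ℓ : ℕ) {X : Scheme.{u}} [X.Over (Spec (CommRingCat.of K))]

/-- An integer lies in the index subgroup up to a factor prime to `ℓ`. -/
def IdxMem (X : Scheme.{u}) [X.Over (Spec (CommRingCat.of K))] (v : ℤ) : Prop :=
  ∃ c : ℤ, ¬ (ℓ : ℤ) ∣ c ∧ c * v ∈ Curv2.indexSubgroup (X ↘ Spec (CommRingCat.of K))

/-- The Euler characteristic lies in the index subgroup up to a factor prime to `ℓ`. -/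
abbrev Good (X : Scheme.{u}) [X.Over (Spec (CommRingCat.of K))] (M : X.Modules) : Prop :=
  IdxMem K ℓ X (Curv2.euler K X M)

variable {K ℓ}

theorem idxMem_of_mem (hℓ : ℓ.Prime) {v : ℤ} (h : v ∈ Curv2.indexSubgroup (X ↘ Spec (CommRingCat.of K))) :
    IdxMem K ℓ X v :=
  ⟨1, fun h1 => hℓ.not_dvd_one (Int.natCast_dvd_natCast.1 (by exact_mod_cast h1)), by rwa [one_mul]⟩

theorem idxMem_add (hℓ : ℓ.Prime) {v w : ℤ} (h1 : IdxMem K ℓ X v) (h2 : IdxMem K ℓ X w) :
    IdxMem K ℓ X (v + w) := by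
  obtain ⟨c, hc, hcv⟩ := h1
  obtain ⟨d, hd, hdw⟩ := h2
  refine ⟨c * d, fun h => ((Nat.prime_iff_prime_int.1 hℓ).dvd_or_dvd h).elim hc hd, ?_⟩
  rw [show c * d * (v + w) = d • (c * v) + c • (d * w) by simp only [smul_eq_mul]; ring]
  exact add_mem (zsmul_mem hcv d) (zsmul_mem hdw c)

theorem idxMem_mul {v : ℤ} (h : IdxMem K ℓ X v) (n : ℤ) : IdxMem K ℓ X (n * v) := by
  obtain ⟨c, hc, hcv⟩ := h
  refine ⟨c, hc, ?_⟩
  rw [show c * (n * v) = n • (c * v) by simp only [smul_eq_mul]; ring]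
  exact zsmul_mem hcv n

theorem idxMem_sub (hℓ : ℓ.Prime) {v w : ℤ} (h1 : IdxMem K ℓ X v) (h2 : IdxMem K ℓ X w) :
    IdxMem K ℓ X (v - w) := by
  rw [show v - w = v + (-1) * w by ring]
  exact idxMem_add hℓ h1 (idxMem_mul h2 _)

theorem idxMem_of_mul (hℓ : ℓ.Prime) {n : ℤ} (hn : ¬ (ℓ : ℤ) ∣ n) {v : ℤ} (h : IdxMem K ℓ X (n * v)) :
    IdxMem K ℓ X v := by
  obtain ⟨c, hc, hcv⟩ := h
  exact ⟨c * n, fun h => ((Nat.prime_iff_prime_int.1 hℓ).dvd_or_dvd h).elim hc hn, by rwa [mul_assoc]⟩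

theorem euler_zero {M : X.Modules} (hM : IsZero M) : Curv2.euler K X M = 0 := by
  refine finsum_eq_zero_of_forall_eq_zero fun i => ?_
  haveI : Subsingleton (Coh.HH X M i) :=
    CohFinite.subsingleton_of_split M (fun e : Fin 0 => e.elim0) (fun e => e.elim0) (fun e => e.elim0)
      (hM.eq_of_src _ _) i fun e => e.elim0
  rw [Module.finrank_zero_of_subsingleton]
  simp

theorem length_add {S : ShortComplex X.Modules} (hS : S.ShortExact) (x : X) :
    Module.length (X.presheaf.stalk x) (S.X₂.presheaf.stalk x) =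
      Module.length (X.presheaf.stalk x) (S.X₁.presheaf.stalk x) +
        Module.length (X.presheaf.stalk x) (S.X₃.presheaf.stalk x) := by
  have hx := hS.map_of_exact (DerSch.stalkFunctor X x)
  exact Module.length_eq_add_of_exact ((DerSch.stalkFunctor X x).map S.f).hom ((DerSch.stalkFunctor X x).map S.g).hom
    ((ModuleCat.mono_iff_injective _).1 hx.mono_f) ((ModuleCat.epi_iff_surjective _).1 hx.epi_g)
    ((ShortComplex.ShortExact.moduleCat_exact_iff_function_exact _).1 hx.exact)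

theorem length_piece [IsNoetherian X] {ξ : X} {R : X.Modules} (hR : IsPiece ξ R) :
    Module.length (X.presheaf.stalk ξ) (R.presheaf.stalk ξ) = 1 := by
  obtain ⟨j, hj⟩ := hR.exists_mono
  haveI : Nontrivial (R.presheaf.stalk ξ) := not_subsingleton_iff_nontrivial.1 hR.mem
  haveI : IsSimpleModule (X.presheaf.stalk ξ) (R.presheaf.stalk ξ) := by
    refine isSimpleModule_iff_toSpanSingleton_surjective.2 ⟨inferInstance, fun m hm m' => ?_⟩
    obtain ⟨c, hc⟩ := stalk_A_generates ξ (m := stalkHom j ξ m)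
      (fun h => hm (stalkHom_injective j ξ (h.trans (map_zero _).symm))) (stalkHom j ξ m')
    exact ⟨c, stalkHom_injective j ξ ((stalkHom_smul j ξ c m).trans hc.symm)⟩
  exact Module.length_eq_one _ _

theorem length_eq_zero {ξ : X} {M : X.Modules} (h : ξ ∉ CohB1.support M) :
    Module.length (X.presheaf.stalk ξ) (M.presheaf.stalk ξ) = 0 := by
  have : Subsingleton (M.presheaf.stalk ξ) := not_not.1 h
  exact Module.length_eq_zero

variable [IsProper (X ↘ Spec (CommRingCat.of K))]

theorem good_ext (hℓ : ℓ.Prime) {S : ShortComplex X.Modules} (hS : S.ShortExact) (h₁ : Coh.IsCoh S.X₁)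
    (h₂ : Coh.IsCoh S.X₂) (h₃ : Coh.IsCoh S.X₃) (g₁ : Good K ℓ X S.X₁) (g₃ : Good K ℓ X S.X₃) :
    Good K ℓ X S.X₂ := by
  show IdxMem K ℓ X _
  rw [CurveRR.euler_add (k := K) hS h₁ h₂ h₃]
  exact idxMem_add hℓ g₁ g₃

/-- At every point of a set there is a good module of length prime to `ℓ`. -/
def HasGood (K : Type u) [Field K] (ℓ : ℕ) (X : Scheme.{u}) [X.Over (Spec (CommRingCat.of K))] (ξ : X) : Prop :=
  ∃ (G : X.Modules) (n : ℕ), Coh.IsCoh G ∧ CohB1.support G ⊆ closure {ξ} ∧
    Module.length (X.presheaf.stalk ξ) (G.presheaf.stalk ξ) = n ∧ ¬ ℓ ∣ n ∧ Good K ℓ X G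

/-- Dévissage. -/
theorem good_of_points [IsNoetherian X] (hℓ : ℓ.Prime) (h : ∀ ξ : X, HasGood K ℓ X ξ) (M : X.Modules)
    (hM : Coh.IsCoh M) : Good K ℓ X M := by
  refine dev_core (Good K ℓ X) (fun N hN => ?_) ⊤ (fun S hS a b c _ => good_ext hℓ hS a b c)
    (fun ξ _ hsmall R hR => ?_) M hM (by simp)
  · show IdxMem K ℓ X _
    rw [euler_zero hN]
    exact idxMem_of_mem hℓ (zero_mem _)
  obtain ⟨G, n, hG, hGs, hGl, hGn, hGg⟩ := h ξ
  suffices ∀ F : X.Modules, Filt F → CohB1.support F ⊆ closure {ξ} →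
      ∃ m : ℕ, Module.length (X.presheaf.stalk ξ) (F.presheaf.stalk ξ) = m ∧
        IdxMem K ℓ X (Curv2.euler K X F - m * Curv2.euler K X R) by
    obtain ⟨m, hm, hmem⟩ := this G (filt_of_isCoh G hG) hGs
    obtain rfl : n = m := by exact_mod_cast hGl.symm.trans hm
    have h1 := idxMem_sub hℓ hGg hmem
    rw [sub_sub_cancel] at h1
    exact idxMem_of_mul hℓ (fun hd => hGn (Int.natCast_dvd_natCast.1 hd)) h1
  intro F hF
  induction hF with
  | @zero F h0 =>
    intro _
    refine ⟨0, length_eq_zero (fun hh => ?_), ?_⟩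
    · rw [support_of_isZero h0] at hh; exact hh
    · rw [euler_zero h0]; simpa using idxMem_of_mem hℓ (zero_mem _)
  | @step N F R' f g w ξ' hS hN hNc hFc hR' ih =>
    intro hFs
    have hsupp := ClSubLib.support_shortExact _ hS
    have hNs : CohB1.support N ⊆ closure {ξ} := fun x hx => hFs (hsupp ▸ Or.inl hx)
    have hR's : CohB1.support R' ⊆ closure {ξ} := fun x hx => hFs (hsupp ▸ Or.inr hx)
    obtain ⟨m, hm, hmem⟩ := ih hNs
    have hadd := CurveRR.euler_add (k := K) hS hNc hFc hR'.coh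
    have hlen : Module.length (X.presheaf.stalk ξ) (F.presheaf.stalk ξ) =
        Module.length (X.presheaf.stalk ξ) (N.presheaf.stalk ξ) +
          Module.length (X.presheaf.stalk ξ) (R'.presheaf.stalk ξ) := length_add hS ξ
    rw [hm] at hlen
    by_cases hξ : ξ ∈ CohB1.support R'
    · have h1 : ξ' ⤳ ξ := specializes_iff_mem_closure.2 (hR'.support_subset hξ)
      have h2 : ξ ⤳ ξ' := specializes_iff_mem_closure.2 (hR's hR'.mem)
      rw [(h1.antisymm h2).eq] at hR'
      refine ⟨m + 1, by rw [hlen, length_piece hR', Nat.cast_add, Nat.cast_one], ?_⟩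
      obtain ⟨I, a, b, ha, hb, hI, hsa, hsb⟩ := piece_inter hR' hR
      have hca := QC.isCoh_cokernel hI.coh.1 hR'.coh a
      have hcb := QC.isCoh_cokernel hI.coh.1 hR.coh b
      have e1 := CurveRR.euler_add (k := K) (cokSeq_shortExact a) hI.coh hR'.coh hca
      have e2 := CurveRR.euler_add (k := K) (cokSeq_shortExact b) hI.coh hR.coh hcb
      dsimp only at e1 e2 hadd
      have key := idxMem_add hℓ hmem (idxMem_sub hℓ (hsmall _ hca hsa) (hsmall _ hcb hsb))
      convert key using 1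
      rw [hadd, e1]
      push_cast
      linear_combination -(e2)
    · refine ⟨m, by rw [hlen, length_eq_zero hξ, add_zero], ?_⟩
      have key := idxMem_add hℓ hmem (hsmall _ hR'.coh ⟨hR's, hξ⟩)
      convert key using 1
      dsimp only at hadd
      rw [hadd]
      ring

end Groth.Agent.IndexAlt
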