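import Groth.Agent.IndexLift.Alter.Good
import Groth.Agent.Nakai.ProjCover
import Groth.Agent.Nakai.FlatEuler
import Groth.Agent.WeilLib.Trdeg
import Groth.Agent.CycDim.PushSheaf
import Groth.Agent.Intersect.Push
import Groth.Agent.CurveRR.Multi2
import Mathlib.AlgebraicGeometry.ZariskisMainTheorem

/-!
A module with generic length prime to `ℓ` and good Euler characteristic, obtained as direct image from a
projective birational cover of a generically finite cover.
-/

set_option autoImplicit false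
set_option backward.isDefEq.respectTransparency false
set_option backward.isDefEq.respectTransparency.types false
set_option linter.style.haveILetI false

universe u

open CategoryTheory CategoryTheory.Limits AlgebraicGeometry TopologicalSpace Opposite

noncomputable section

namespace Groth.Agent.IndexAlt

variable {K : Type u} [Field K] {ℓ : ℕ}

theorem length_stalk_inv {Y : Scheme.{u}} [IsIntegral Y] {L : Y.Modules} (hL : PicF.IsInvertible L) :
    Module.length (Y.presheaf.stalk (genericPoint Y)) (L.presheaf.stalk (genericPoint Y)) = 1 := by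
  obtain ⟨e⟩ := CurveRR.Multi.nonempty_stalk_equiv hL (genericPoint Y)
  rw [← e.length_eq]
  letI : Field (Y.presheaf.stalk (genericPoint Y)) := inferInstanceAs (Field Y.functionField)
  rw [Module.length_eq_finrank, Module.finrank_self, Nat.cast_one]

theorem pdim_map_le {X Y : Scheme.{u}} (p : X ⟶ Spec (CommRingCat.of K)) (q : Y ⟶ Spec (CommRingCat.of K))
    [LocallyOfFiniteType p] [LocallyOfFiniteType q] (f : X ⟶ Y) (hf : f ≫ q = p) (x : X) :
    WeilCoh.pdim Y (f x) ≤ WeilCoh.pdim X x := by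
  letI := (WeilLib.kStr q (f x)).toAlgebra
  letI := (WeilLib.kStr p x).toAlgebra
  letI := (f.residueFieldMap x).hom.toAlgebra
  haveI : IsScalarTower K (Y.residueField (f x)) (X.residueField x) :=
    IsScalarTower.of_algebraMap_eq fun a ↦ (RingHom.congr_fun (WeilLib.kStr_comp p f q hf x) a).symm
  have h := trdeg_add_eq K (Y.residueField (f x)) (A := X.residueField x)
  have h1 := (WeilLib.exists_pdim_eq_trd p x).1
  have h2 := (WeilLib.exists_pdim_eq_trd q (f x)).1
  have h3 : (WeilCoh.pdim Y (f x) : Cardinal.{u}) ≤ (WeilCoh.pdim X x : Cardinal.{u}) :=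
    h2 ▸ h1 ▸ (le_self_add.trans_eq h)
  exact_mod_cast h3

theorem indexSubgroup_le {C X : Scheme.{u}} [C.Over (Spec (CommRingCat.of K))] [X.Over (Spec (CommRingCat.of K))]
    (ψ : C ⟶ X) [IsProper ψ] (hψ : ψ ≫ (X ↘ Spec (CommRingCat.of K)) = C ↘ Spec (CommRingCat.of K)) :
    Curv2.indexSubgroup (C ↘ Spec (CommRingCat.of K)) ≤ Curv2.indexSubgroup (X ↘ Spec (CommRingCat.of K)) := by
  refine (AddSubgroup.closure_le _).2 ?_
  rintro _ ⟨x, hx, rfl⟩
  have hc : IsClosed ({ψ x} : Set X) := by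
    rw [← Set.image_singleton]
    exact ψ.isClosedMap _ hx
  have hmem : ((X ↘ Spec (CommRingCat.of K)).residueDegree (ψ x) : ℤ) ∈
      Curv2.indexSubgroup (X ↘ Spec (CommRingCat.of K)) :=
    AddSubgroup.subset_closure ⟨ψ x, hc, rfl⟩
  show ((C ↘ Spec (CommRingCat.of K)).residueDegree x : ℤ) ∈ Curv2.indexSubgroup (X ↘ Spec (CommRingCat.of K))
  rw [← hψ, CycDeg.residueDegree_comp, Nat.cast_mul, mul_comm, ← smul_eq_mul]
  exact AddSubgroup.zsmul_mem _ hmem _

theorem hasGood_of_cover (hℓ : ℓ.Prime) {C X : Scheme.{u}} [C.Over (Spec (CommRingCat.of K))]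
    [IsProper (C ↘ Spec (CommRingCat.of K))] [X.Over (Spec (CommRingCat.of K))]
    [IsProper (X ↘ Spec (CommRingCat.of K))] [IsIntegral C] (ψ₀ : C ⟶ X) [IsProper ψ₀]
    (hψ₀ : ψ₀ ≫ (X ↘ Spec (CommRingCat.of K)) = C ↘ Spec (CommRingCat.of K)) {ξ : X}
    (hξ : ψ₀ (genericPoint C) = ξ) (hdeg : ψ₀.residueDegree (genericPoint C) ≠ 0)
    (hdvd : ¬ ℓ ∣ ψ₀.residueDegree (genericPoint C)) (hC : ∀ M : C.Modules, Coh.IsCoh M → Good K ℓ C M) :
    HasGood K ℓ X ξ := by
  haveI := CurveRR.isNoetherian_of_proper K X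
  haveI := CurveRR.isNoetherian_of_proper K C
  obtain ⟨C', f, hqp, hfp, -, ⟨U, hU, hiso⟩, -, -, hint⟩ :=
    Groth.Agent.S4415.result (C ↘ Spec (CommRingCat.of K)) (Or.inl inferInstance)
  haveI : IsProper f := (Groth.Agent.SymAlg.isProper_and_ftData_of_isProjective hfp).1
  haveI : IsIntegral C' := hint inferInstance
  letI : C'.Over (Spec (CommRingCat.of K)) := ⟨f ≫ C ↘ Spec (CommRingCat.of K)⟩
  haveI : IsProper (C' ↘ Spec (CommRingCat.of K)) := inferInstanceAs (IsProper (f ≫ _))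
  haveI := CurveRR.isNoetherian_of_proper K C'
  obtain ⟨-, -, L, hL⟩ := hqp
  have hLa : CohB1.IsAmple L := (TMul.isAmple_restrict_top_iff L).1 (hL.2 ⟨⊤, isAffineOpen_top _⟩)
  let ψ : C' ⟶ X := f ≫ ψ₀
  have hψ : ψ ≫ (X ↘ Spec (CommRingCat.of K)) = C' ↘ Spec (CommRingCat.of K) :=
    (Category.assoc _ _ _).trans (congrArg (f ≫ ·) hψ₀)
  -- a twist
  have hO : Coh.IsCoh (Coh.structureModule C') := Devissage.isCoh_unit C'
  obtain ⟨n₁, hn₁⟩ := Nakai.exists_directAcyclic_twist f hLa hO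
  obtain ⟨n₂, hn₂⟩ := Nakai.exists_directAcyclic_twist ψ hLa hO
  let F := CohB1.tensorMod (Coh.structureModule C') (CohB1.tensorPow L (max n₁ n₂))
  have hLn : PicF.IsInvertible (CohB1.tensorPow L (max n₁ n₂)) := TMul.isInvertible_tensorPow hLa.1 _
  let eF : F ≅ CohB1.tensorPow L (max n₁ n₂) := TMul.leftUnitIso _
  have hF : Coh.IsCoh F := CohFinite.isCoh_of_iso eF.symm (CurveRR.isCoh_of_inv hLn)
  have hlen : Module.length (C'.presheaf.stalk (genericPoint C')) (F.presheaf.stalk (genericPoint C')) = 1 :=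
    (CycSheafPush.length_stalk_congr eF _).trans (length_stalk_inv hLn)
  -- the birational part
  have hηU : genericPoint C' ∈ f ⁻¹ᵁ U :=
    ((genericPoint_spec C').mem_open_set_iff (f ⁻¹ᵁ U).2).2 (by
      obtain ⟨z, hz⟩ := hU.nonempty
      exact ⟨z, trivial, hz⟩)
  have hfη : f (genericPoint C') = genericPoint C := by
    haveI := hiso
    haveI : Nonempty (f ⁻¹ᵁ U : C'.Opens).toScheme := ⟨⟨_, hηU⟩⟩
    haveI : Nonempty U.toScheme := ⟨(f ∣_ U) ⟨_, hηU⟩⟩
    haveI : IsIntegral (f ⁻¹ᵁ U : C'.Opens).toScheme := isIntegral_of_isOpenImmersion (f ⁻¹ᵁ U).ι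
    rw [← genericPoint_eq_of_isOpenImmersion (f ⁻¹ᵁ U).ι, ← Scheme.Hom.comp_apply, ← morphismRestrict_ι]
    exact genericPoint_eq_of_isOpenImmersion ((f ∣_ U) ≫ U.ι)
  have hfdeg : f.residueDegree (genericPoint C') = 1 := by
    haveI := hiso
    have e := CycDeg.residueDegree_comp (f ⁻¹ᵁ U).ι f ⟨genericPoint C', hηU⟩
    rw [← morphismRestrict_ι, CycDeg.residueDegree_eq_one ((f ∣_ U) ≫ U.ι)
      (ConcreteCategory.bijective_of_isIso _).2, CycDeg.residueDegree_eq_one (f ⁻¹ᵁ U).ι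
      (ConcreteCategory.bijective_of_isIso _).2, mul_one] at e
    exact e.symm
  have hψη : ψ (genericPoint C') = ξ := by
    rw [Scheme.Hom.comp_apply, hfη, hξ]
  have hψdeg : ψ.residueDegree (genericPoint C') = ψ₀.residueDegree (genericPoint C) := by
    rw [CycDeg.residueDegree_comp, hfdeg, mul_one, hfη]
  -- the fibre over `ξ`
  have hfib : ∀ z : C', ψ z = ξ → z = genericPoint C' := by
    intro z hz
    by_contra hne
    have h1 := WeilLib.pdim_lt (C' ↘ Spec (CommRingCat.of K))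
      ((genericPoint_spec C').specializes (show z ∈ (⊤ : Set C') from trivial)) hne
    have h2 := WeilLib.pdim_eq_of_residueDegree_ne_zero (C' ↘ Spec (CommRingCat.of K)) ψ
      (X ↘ Spec (CommRingCat.of K)) hψ (x := genericPoint C') (hψdeg ▸ hdeg)
    rw [hψη, ← hz] at h2
    have h3 := pdim_map_le (C' ↘ Spec (CommRingCat.of K)) (X ↘ Spec (CommRingCat.of K)) ψ hψ z
    omega
  have hsupp : ∀ z : C', ξ ⤳ ψ z := fun z => hψη ▸
    (((genericPoint_spec C').specializes (show z ∈ (⊤ : Set C') from trivial)).map ψ.continuous)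
  have hfin : (ψ ⁻¹' {ξ}).Finite := (Set.finite_singleton (genericPoint C')).subset fun z hz => hfib z hz
  obtain ⟨V, hξV, hVfin⟩ := exists_isFinite_morphismRestrict_of_finite_preimage_singleton (f := ψ) ξ hfin
  obtain ⟨V', hV', hξV', hV'V⟩ := exists_isAffineOpen_mem_and_subset (U := V) hξV
  haveI : IsFinite (ψ ∣_ V') := by
    haveI := hVfin
    have h1 : IsFinite (ψ ∣_ V ∣_ V.ι ⁻¹ᵁ V') := IsZariskiLocalAtTarget.restrict hVfin _
    have h2 := (MorphismProperty.arrow_mk_iso_iff @IsFinite (morphismRestrictRestrict ψ V (V.ι ⁻¹ᵁ V'))).1 h1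
    have e : V.ι ''ᵁ V.ι ⁻¹ᵁ V' = V' := (Devissage.image_preimage_ι V V').trans (inf_eq_right.2 hV'V)
    rwa [e] at h2
  obtain ⟨hU', hfin'⟩ := CycSheafPush.finite_app_of_restrict ψ hV'
  have hpush : Coh.IsCoh ((Scheme.Modules.pushforward ψ).obj F) := Intersect.isCoh_push' ψ hF
  refine ⟨(Scheme.Modules.pushforward ψ).obj F, ψ₀.residueDegree (genericPoint C), hpush, ?_, ?_, hdvd, ?_⟩
  · refine (Intersect.support_push_subset ψ (T := Set.univ) (ψ.isClosedMap _ isClosed_univ) (Set.subset_univ _)).trans ?_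
    rintro _ ⟨z, -, rfl⟩
    exact specializes_iff_mem_closure.1 (hsupp z)
  · have h := CycSheafPush.toNat_length_push ψ hF hV' hU' hfin' hξV' hfin
      fun z hz => (hz.antisymm (hsupp z)).eq
    have hset : hfin.toFinset = {genericPoint C'} := by
      ext z
      simp only [Set.Finite.mem_toFinset, Set.mem_preimage, Set.mem_singleton_iff, Finset.mem_singleton]
      exact ⟨hfib z, fun e => e ▸ hψη⟩
    rw [hset, Finset.sum_singleton, hlen, ENat.toNat_one, Nat.cast_one, mul_one, hψdeg, Nat.cast_inj] at h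
    rw [← h]
    exact (ENat.natCast_toNat fun htop => hdeg (by rw [← h, show Coh.push ψ = Scheme.Modules.pushforward ψ from rfl,
      htop, ENat.toNat_top])).symm
  · obtain ⟨c, hc, hmem⟩ := hC _ (Intersect.isCoh_push' f hF)
    refine ⟨c, hc, indexSubgroup_le ψ₀ hψ₀ ?_⟩
    rwa [← Nakai.euler_push_acyclic K ψ hψ F (hn₂ _ (le_max_right _ _)),
      Nakai.euler_push_acyclic K f rfl F (hn₁ _ (le_max_left _ _))]

end Groth.Agent.IndexAlt
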