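import Groth.Agent.IndexLift.Alter.Model
import Groth.Agent.IndexLift.Alter.Push

/-!
Over a strictly henselian discrete valuation ring with alterations, the prime-to-`p` index divides the Euler
characteristic of every coherent module.
-/

set_option autoImplicit false
set_option backward.isDefEq.respectTransparency false
set_option backward.isDefEq.respectTransparency.types false
set_option linter.style.haveILetI false

universe u

open CategoryTheory CategoryTheory.Limits AlgebraicGeometry TopologicalSpace Opposite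

noncomputable section

namespace Groth.Agent.IndexAlt

variable {R : Type u} [CommRing R] [IsDomain R] [IsDiscreteValuationRing R] [HenselianLocalRing R] {ℓ : ℕ}

theorem hasGood (hk : IsAlgClosed (IsLocalRing.ResidueField R)) (hℓ : ℓ.Prime)
    (halt : ∀ (Z : Scheme.{u}) (q : Z ⟶ Spec (CommRingCat.of R)) [AlgebraicGeometry.IsIntegral Z] [IsProper q]
      [Flat q], ∃ (Y : Scheme.{u}) (h : Y ⟶ Z) (_ : AlgebraicGeometry.IsIntegral Y),
        (∀ y : Y, IsRegularLocalRing (Y.presheaf.stalk y)) ∧ IsProper h ∧ Surjective h ∧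
        h.base (genericPoint Y) = genericPoint Z ∧ h.residueDegree (genericPoint Y) ≠ 0 ∧
        ¬ ℓ ∣ h.residueDegree (genericPoint Y)) :
    ∀ (d : ℕ) (X : Scheme.{u}) [X.Over (Spec (CommRingCat.of (FractionRing R)))]
      [IsProper (X ↘ Spec (CommRingCat.of (FractionRing R)))] (ξ : X),
      WeilCoh.pdim X ξ = d → HasGood (FractionRing R) ℓ X ξ := by
  intro d
  induction d using Nat.strong_induction_on with
  | _ d ih =>
    intro X _ _ ξ hd
    haveI : IsIntegral (Scheme.IdealSheafData.vanishingIdeal (Devissage.Zc ξ)).subscheme :=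
      Devissage.Zi_isIntegral ξ
    obtain ⟨C, h, _, _, hη, hdeg, hdvd, hO⟩ := exists_cover hk hℓ halt _
      (Devissage.Zi ξ ≫ X ↘ Spec (CommRingCat.of (FractionRing R)))
    letI : C.Over (Spec (CommRingCat.of (FractionRing R))) :=
      ⟨h ≫ Devissage.Zi ξ ≫ X ↘ Spec (CommRingCat.of (FractionRing R))⟩
    haveI : IsProper (C ↘ Spec (CommRingCat.of (FractionRing R))) :=
      inferInstanceAs (IsProper (h ≫ _ ≫ _))
    haveI := CurveRR.isNoetherian_of_proper (FractionRing R) C
    let ψ₀ : C ⟶ X := h ≫ Devissage.Zi ξ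
    have hψ₀ : ψ₀ ≫ (X ↘ Spec (CommRingCat.of (FractionRing R))) = C ↘ Spec (CommRingCat.of (FractionRing R)) :=
      Category.assoc _ _ _
    have hξ : ψ₀ (genericPoint C) = ξ := by
      rw [Scheme.Hom.comp_apply, hη, Devissage.genericPoint_Zi]
    have hone : (Devissage.Zi ξ).residueDegree (h (genericPoint C)) = 1 := by
      refine CycDeg.residueDegree_eq_one _ fun a => ?_
      obtain ⟨b, rfl⟩ := IsLocalRing.residue_surjective a
      obtain ⟨c, rfl⟩ := (Devissage.Zi ξ).stalkMap_surjective (h (genericPoint C)) b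
      exact ⟨(X.residue _).hom c, congrArg (fun φ => φ.hom c)
        (Scheme.residue_residueFieldMap (Devissage.Zi ξ) (h (genericPoint C)))⟩
    have hψdeg : ψ₀.residueDegree (genericPoint C) = h.residueDegree (genericPoint C) := by
      rw [CycDeg.residueDegree_comp, hone, one_mul]
    have hpd : WeilCoh.pdim C (genericPoint C) = d := by
      rw [← WeilLib.pdim_eq_of_residueDegree_ne_zero (C ↘ Spec (CommRingCat.of (FractionRing R))) ψ₀
        (X ↘ Spec (CommRingCat.of (FractionRing R))) hψ₀ (hψdeg ▸ hdeg), hξ, hd]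
    have hpts : ∀ y : C, HasGood (FractionRing R) ℓ C y := by
      intro y
      by_cases hy : y = genericPoint C
      · subst hy
        refine ⟨Coh.structureModule C, 1, Devissage.isCoh_unit C, ?_, ?_, hℓ.not_dvd_one, hO⟩
        · exact fun z _ => specializes_iff_mem_closure.1
            ((genericPoint_spec C).specializes (show z ∈ (⊤ : Set C) from trivial))
        · rw [Nat.cast_one, CurveRR.Multi.length_stalkUnit]
          letI : Field (C.presheaf.stalk (genericPoint C)) := inferInstanceAs (Field C.functionField)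
          rw [Module.length_eq_finrank, Module.finrank_self, Nat.cast_one]
      · refine ih _ ?_ C y rfl
        rw [← hpd]
        exact WeilLib.pdim_lt (C ↘ Spec (CommRingCat.of (FractionRing R)))
          ((genericPoint_spec C).specializes (show y ∈ (⊤ : Set C) from trivial)) hy
    exact hasGood_of_cover hℓ ψ₀ hψ₀ hξ (hψdeg ▸ hdeg) (hψdeg ▸ hdvd) (good_of_points hℓ hpts)

/-- The index divides the Euler characteristic up to primes which vanish in the residue field. -/
theorem euler_mem (hk : IsAlgClosed (IsLocalRing.ResidueField R))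
    (halt : ∀ (ℓ : ℕ), ℓ.Prime → (ℓ : IsLocalRing.ResidueField R) ≠ 0 →
      ∀ (Z : Scheme.{u}) (q : Z ⟶ Spec (CommRingCat.of R)) [AlgebraicGeometry.IsIntegral Z] [IsProper q] [Flat q],
        ∃ (Y : Scheme.{u}) (h : Y ⟶ Z) (_ : AlgebraicGeometry.IsIntegral Y),
          (∀ y : Y, IsRegularLocalRing (Y.presheaf.stalk y)) ∧ IsProper h ∧ Surjective h ∧
          h.base (genericPoint Y) = genericPoint Z ∧ h.residueDegree (genericPoint Y) ≠ 0 ∧
          ¬ ℓ ∣ h.residueDegree (genericPoint Y))
    (X : Scheme.{u}) [X.Over (Spec (CommRingCat.of (FractionRing R)))]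
    [IsProper (X ↘ Spec (CommRingCat.of (FractionRing R)))] (E : X.Modules) (hE : Coh.IsCoh E) :
    ∃ c : ℕ, 1 ≤ c ∧ (∀ q : ℕ, q.Prime → q ∣ c → (q : IsLocalRing.ResidueField R) = 0) ∧
      (c : ℤ) * Curv2.euler (FractionRing R) X E ∈
        Curv2.indexSubgroup (X ↘ Spec (CommRingCat.of (FractionRing R))) := by
  haveI := CurveRR.isNoetherian_of_proper (FractionRing R) X
  set χ := Curv2.euler (FractionRing R) X E
  let H := (Curv2.indexSubgroup (X ↘ Spec (CommRingCat.of (FractionRing R)))).comap (AddMonoidHom.mulRight χ)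
  have hgood : ∀ q : ℕ, q.Prime → (q : IsLocalRing.ResidueField R) ≠ 0 → ∃ c ∈ H, ¬ (q : ℤ) ∣ c := fun q hq hq0 => by
    obtain ⟨c, hc, hmem⟩ := good_of_points hq (fun ξ => hasGood hk hq (halt q hq hq0) _ X ξ rfl) E hE
    exact ⟨c, hmem, hc⟩
  obtain ⟨q₀, hq₀, hq₀0⟩ : ∃ q : ℕ, q.Prime ∧ (q : IsLocalRing.ResidueField R) ≠ 0 := by
    by_contra hno
    push_neg at hno
    have h2 := hno 2 Nat.prime_two
    have h3 := hno 3 Nat.prime_three
    push_cast at h2 h3
    exact one_ne_zero (α := IsLocalRing.ResidueField R) (by linear_combination h3 - h2)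
  obtain ⟨d₀, hd₀⟩ := Int.subgroup_cyclic H
  have hdvd : ∀ c ∈ H, d₀ ∣ c := fun c hc => by
    rw [hd₀, AddSubgroup.mem_closure_singleton] at hc
    obtain ⟨n, rfl⟩ := hc
    exact ⟨n, by rw [smul_eq_mul, mul_comm]⟩
  have hd₀H : d₀ ∈ H := by rw [hd₀]; exact AddSubgroup.subset_closure rfl
  have hne : d₀ ≠ 0 := fun h0 => by
    obtain ⟨c, hc, hq⟩ := hgood q₀ hq₀ hq₀0
    have := hdvd c hc
    rw [h0, zero_dvd_iff] at this
    exact hq (this ▸ dvd_zero _)
  refine ⟨d₀.natAbs, Int.natAbs_pos.2 hne, fun q hq hqd => ?_, ?_⟩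
  · by_contra hq0
    obtain ⟨c, hc, hqc⟩ := hgood q hq hq0
    exact hqc ((Int.natCast_dvd.2 hqd).trans (hdvd c hc))
  · rcases Int.natAbs_eq d₀ with h | h
    · exact h ▸ hd₀H
    · have := H.neg_mem hd₀H
      rw [h, neg_neg] at this
      exact this

end Groth.Agent.IndexAlt
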