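import Groth.Agent.IndexLift.Main
import Groth.Agent.IndexLift.Alter.Good
import Groth.Agent.IsoNatLib.ExtDVR
import Groth.Agent.Nakai.SemiAmple
import Groth.Agent.S0384

/-!
Regular proper models of generically finite covers of integral proper schemes over the fraction field
of a discrete valuation ring.
-/

set_option autoImplicit false
set_option backward.isDefEq.respectTransparency false
set_option backward.isDefEq.respectTransparency.types false
set_option linter.style.haveILetI false

universe u

open CategoryTheory CategoryTheory.Limits AlgebraicGeometry TopologicalSpace Opposite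

noncomputable section

namespace Groth.Agent.IndexAlt

variable {R : Type u} [CommRing R] [IsDomain R] [IsDiscreteValuationRing R]

/-- The generic point of `Spec R`. -/
abbrev genPt (R : Type u) [CommRing R] [IsDomain R] : Spec (CommRingCat.of R) :=
  (⟨⊥, Ideal.isPrime_bot⟩ : PrimeSpectrum R)

theorem gen_apply (t : Spec (CommRingCat.of (FractionRing R))) :
    (Spec.map (CommRingCat.ofHom (algebraMap R (FractionRing R)))) t = genPt R := by
  refine PrimeSpectrum.ext ?_
  show Ideal.comap (algebraMap R (FractionRing R)) (t : PrimeSpectrum (FractionRing R)).asIdeal = ⊥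
  rw [(Ideal.eq_bot_or_top (t : PrimeSpectrum (FractionRing R)).asIdeal).resolve_right
    (t : PrimeSpectrum (FractionRing R)).2.ne_top]
  exact (RingHom.injective_iff_ker_eq_bot _).1 (IsFractionRing.injective R (FractionRing R))

theorem flat_of_dominant {X : Scheme.{u}} [IsIntegral X] (p : X ⟶ Spec (CommRingCat.of R))
    (hp : p (genericPoint X) = genPt R) : Flat p := by
  refine IsZariskiLocalAtSource.of_openCover (P := @Flat) X.affineCover fun i => ?_
  obtain ⟨φ, hφ⟩ := Spec.map_surjective (X.affineCover.f i ≫ p)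
  refine hφ ▸ (HasRingHomProperty.Spec_iff (P := @Flat)).2 ?_
  letI := φ.hom.toAlgebra
  show Module.Flat R _
  by_cases hne : Nonempty (X.affineCover.X i)
  · haveI : IsIntegral (X.affineCover.X i) := isIntegral_of_isOpenImmersion (X.affineCover.f i)
    haveI : IsDomain _ := (affine_isIntegral_iff _).1 ‹IsIntegral (X.affineCover.X i)›
    obtain ⟨z, hz⟩ : genericPoint X ∈ Set.range (X.affineCover.f i) :=
      ((genericPoint_spec X).mem_open_set_iff (X.affineCover.f i).isOpenEmbedding.isOpen_range).2
        ⟨_, trivial, ⟨hne.some, rfl⟩⟩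
    have hbot : (z : PrimeSpectrum _).asIdeal.comap φ.hom = ⊥ := by
      have h1 : (Spec.map φ) z = genPt R := by rw [hφ]; exact (Scheme.Hom.comp_apply _ _ _).trans ((congrArg p hz).trans hp)
      exact congrArg PrimeSpectrum.asIdeal h1
    refine Module.Flat.flat_iff_torsion_eq_bot_of_isBezout.2 ((Submodule.eq_bot_iff _).2 fun a ha => ?_)
    obtain ⟨⟨r, hr⟩, hra⟩ := (Submodule.mem_torsion_iff _).1 ha
    rcases mul_eq_zero.1 (show φ.hom r * a = 0 from hra) with h | h
    · refine absurd (show r ∈ (⊥ : Ideal R) from hbot ▸ ?_) (nonZeroDivisors.ne_zero hr)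
      show φ.hom r ∈ (z : PrimeSpectrum _).asIdeal
      rw [h]
      exact Ideal.zero_mem _
    · exact h
  · haveI : Subsingleton _ := PrimeSpectrum.isEmpty_iff_subsingleton.1 (not_nonempty_iff.1 hne)
    infer_instance

variable {ℓ : ℕ}

/-- A generically finite regular cover with a regular proper model. -/
theorem exists_cover [HenselianLocalRing R] (hk : IsAlgClosed (IsLocalRing.ResidueField R)) (hℓ : ℓ.Prime)
    (halt : ∀ (Z : Scheme.{u}) (q : Z ⟶ Spec (CommRingCat.of R)) [AlgebraicGeometry.IsIntegral Z] [IsProper q]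
      [Flat q], ∃ (Y : Scheme.{u}) (h : Y ⟶ Z) (_ : AlgebraicGeometry.IsIntegral Y),
        (∀ y : Y, IsRegularLocalRing (Y.presheaf.stalk y)) ∧ IsProper h ∧ Surjective h ∧
        h.base (genericPoint Y) = genericPoint Z ∧ h.residueDegree (genericPoint Y) ≠ 0 ∧
        ¬ ℓ ∣ h.residueDegree (genericPoint Y))
    (Z : Scheme.{u}) (zK : Z ⟶ Spec (CommRingCat.of (FractionRing R))) [IsProper zK] [IsIntegral Z] :
    ∃ (C : Scheme.{u}) (h : C ⟶ Z) (_ : IsIntegral C) (_ : IsProper h),
      h (genericPoint C) = genericPoint Z ∧ h.residueDegree (genericPoint C) ≠ 0 ∧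
        ¬ ℓ ∣ h.residueDegree (genericPoint C) ∧
        (letI : C.Over (Spec (CommRingCat.of (FractionRing R))) := ⟨h ≫ zK⟩
         Good (FractionRing R) ℓ C (Coh.structureModule C)) := by
  set gen := Spec.map (CommRingCat.ofHom (algebraMap R (FractionRing R))) with hgen
  haveI : IsOpenImmersion gen := IsoNatLib.ExtDVR.isOpenImmersion_generic R (FractionRing R)
  haveI : QuasiCompact gen := inferInstance
  obtain ⟨P, j₀, g₀, _, _, _, hjg⟩ := Groth.Agent.S0384.result (zK ≫ gen)
  haveI : IsIntegral j₀.image := Nakai.isIntegral_image j₀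
  let p := j₀.imageι ≫ g₀
  let j := j₀.toImage
  have hjp : j ≫ p = zK ≫ gen := by
    show j₀.toImage ≫ j₀.imageι ≫ g₀ = _
    rw [Scheme.Hom.toImage_imageι_assoc, hjg]
  have hj : IsOpenImmersion j := inferInstance
  have hηj : j (genericPoint Z) = genericPoint j₀.image :=
    (((genericPoint_spec Z).image j.continuous).eq (by
      rw [Set.image_univ, j.denseRange.closure_eq]; exact genericPoint_spec _))
  haveI : Flat p := flat_of_dominant p (by
    rw [← hηj, ← Scheme.Hom.comp_apply, hjp, Scheme.Hom.comp_apply]; exact gen_apply _)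
  -- the generic fibre
  let W := pullback p gen
  let l : Z ⟶ W := pullback.lift j zK hjp
  have hl₁ : l ≫ pullback.fst p gen = j := pullback.lift_fst _ _ _
  have hl₂ : l ≫ pullback.snd p gen = zK := pullback.lift_snd _ _ _
  haveI : IsOpenImmersion l := by
    haveI : IsOpenImmersion (l ≫ pullback.fst p gen) := hl₁ ▸ hj
    exact IsOpenImmersion.of_comp l (pullback.fst p gen)
  haveI : IsProper l := by
    haveI : IsProper (l ≫ pullback.snd p gen) := hl₂ ▸ ‹IsProper zK›
    exact IsProper.of_comp l (pullback.snd p gen)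
  haveI : Surjective l := ⟨fun w => by
    have hd : DenseRange l := fun w => by
      refine mem_closure_iff.2 fun o ho hwo => ?_
      obtain ⟨-, ⟨x, hx, rfl⟩, ⟨z, hz⟩⟩ := mem_closure_iff.1 (j.denseRange (pullback.fst p gen w))
        ((pullback.fst p gen) '' o) ((pullback.fst p gen).isOpenEmbedding.isOpenMap o ho) ⟨w, hwo, rfl⟩
      refine ⟨x, hx, ⟨z, (pullback.fst p gen).isOpenEmbedding.injective ?_⟩⟩
      rw [← Scheme.Hom.comp_apply, hl₁]
      exact hz
    have hc : IsClosed (Set.range l) := l.isClosedMap.isClosed_range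
    have := hd w
    rwa [hc.closure_eq] at this⟩
  haveI : IsIso l := (isIso_iff_isOpenImmersion_and_surjective _).2 ⟨inferInstance, inferInstance⟩
  have sqZ : IsPullback j zK p gen :=
    IsPullback.of_iso_pullback ⟨hjp⟩ (asIso l) hl₁ hl₂
  -- the alteration
  obtain ⟨Y, a, hY, hreg, ha, -, haη, hdeg, hdvd⟩ := halt j₀.image p
  haveI := ha
  haveI := hY
  let C := pullback a j
  let h : C ⟶ Z := pullback.snd a j
  have hηC : genericPoint Y ∈ Set.range (pullback.fst a j) := by
    rw [IsOpenImmersion.range_pullbackFst]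
    exact ⟨genericPoint Z, hηj.trans haη.symm⟩
  haveI : Nonempty C := ⟨hηC.choose⟩
  haveI : IsIntegral C := isIntegral_of_isOpenImmersion (pullback.fst a j)
  have hfst : pullback.fst a j (genericPoint C) = genericPoint Y :=
    genericPoint_eq_of_isOpenImmersion (pullback.fst a j)
  have hh : h (genericPoint C) = genericPoint Z := j.isOpenEmbedding.injective (by
    rw [hηj, ← Scheme.Hom.comp_apply, ← pullback.condition, Scheme.Hom.comp_apply, hfst]
    exact haη)
  have hone : ∀ {A B : Scheme.{u}} (f : A ⟶ B) [IsOpenImmersion f] (x : A), f.residueDegree x = 1 :=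
    fun f _ x => CycDeg.residueDegree_eq_one f (ConcreteCategory.bijective_of_isIso (f.residueFieldMap x)).2
  have hd : h.residueDegree (genericPoint C) = a.residueDegree (genericPoint Y) := by
    have e1 := CycDeg.residueDegree_comp h j (genericPoint C)
    have e2 := CycDeg.residueDegree_comp (pullback.fst a j) a (genericPoint C)
    rw [hone j, one_mul] at e1
    rw [hone (pullback.fst a j), mul_one, hfst] at e2
    rw [← e1, ← e2, pullback.condition]
  letI : C.Over (Spec (CommRingCat.of (FractionRing R))) := ⟨h ≫ zK⟩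
  haveI : IsProper (C ↘ Spec (CommRingCat.of (FractionRing R))) := inferInstanceAs (IsProper (h ≫ zK))
  haveI : Flat (a ≫ p) := flat_of_dominant (a ≫ p) (by
    rw [Scheme.Hom.comp_apply, haη, ← hηj, ← Scheme.Hom.comp_apply, hjp, Scheme.Hom.comp_apply]
    exact gen_apply _)
  refine ⟨C, h, inferInstance, inferInstance, hh, hd ▸ hdeg, hd ▸ hdvd, ?_⟩
  refine idxMem_of_mem hℓ (IndexLift.euler_mem_indexSubgroup (a ≫ p) hk hreg C ?_)
  exact ⟨inferInstance, inferInstance, inferInstance, pullback.fst a j,
    (IsPullback.of_hasPullback a j).flip.paste_horiz sqZ.flip |>.flip⟩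

end Groth.Agent.IndexAlt
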